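import Groth.Prelude.Def_AlgEqCyc
import Groth.Agent.Lib.Cyc26.Frac

/-! # The diagonal as a family of points on an integral curve -/

set_option autoImplicit false
set_option linter.style.haveILetI false
universe u

open CategoryTheory CategoryTheory.Limits AlgebraicGeometry

namespace Groth.Agent.DiagFam3

theorem ker_specMap_image {P C : Scheme.{u}} [IsIntegral C] (D : C ⟶ P) (x : C)
    (h : genericPoint C ⤳ x) (h' : D (genericPoint C) ⤳ D x) :
    RingHom.ker (Cyc.specMap (D x) (D (genericPoint C)) h') = RingHom.ker (D.stalkMap x).hom := by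
  ext a
  rw [RingHom.mem_ker, RingHom.mem_ker,
    ← map_eq_zero_iff (D.residueFieldMap (genericPoint C)).hom (RingHom.injective _)]
  have key : (D.residueFieldMap (genericPoint C)).hom (Cyc.specMap (D x) (D (genericPoint C)) h' a) =
      Cyc.specMap x (genericPoint C) h (D.stalkMap x a) := by
    show D.residueFieldMap (genericPoint C)
      (P.residue _ (P.presheaf.stalkSpecializes h' a)) = C.residue _ (C.presheaf.stalkSpecializes h (D.stalkMap x a))
    have e1 := congrArg (fun φ => φ (P.presheaf.stalkSpecializes h' a))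
      (Scheme.residue_residueFieldMap D (genericPoint C))
    simp only [CommRingCat.comp_apply] at e1
    rw [e1]
    congr 1
    exact Scheme.Hom.stalkSpecializes_stalkMap_apply D _ _ h a
  rw [key]
  constructor
  · intro ha
    have : (D.stalkMap x a) ∈ RingHom.ker (Cyc.specMap x (genericPoint C) h) := ha
    rw [Cyc26.ker_specMap_generic] at this
    exact this
  · intro ha
    exact (congrArg _ ha).trans (map_zero _)

theorem fibreMult_image_eq_one {P C : Scheme.{u}} [IsIntegral C] (D : C ⟶ P) [IsClosedImmersion D]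
    (g : P ⟶ C) [IsIso (D ≫ g)] (x : C) (h : genericPoint C ⤳ x)
    (h' : D (genericPoint C) ⤳ D x) :
    AlgEqCyc.fibreMult g (D x) (D (genericPoint C)) h' = 1 := by
  let φ : P.presheaf.stalk (D x) →+* C.presheaf.stalk x := (D.stalkMap x).hom
  have hφ : Function.Surjective φ := D.stalkMap_surjective x
  let ψ : C.presheaf.stalk (g (D x)) →+* P.presheaf.stalk (D x) := (g.stalkMap (D x)).hom
  haveI : IsIso ((D ≫ g).stalkMap x) := inferInstance
  have hbij : Function.Bijective (φ ∘ ψ) := by
    have e : (D ≫ g).stalkMap x = g.stalkMap (D x) ≫ D.stalkMap x := Scheme.Hom.stalkMap_comp D g x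
    have := ConcreteCategory.bijective_of_isIso ((D ≫ g).stalkMap x)
    rw [e] at this
    exact this
  have hker := ker_specMap_image D x h h'
  let π : P.presheaf.stalk (D x) →+* Cyc.LocQuot (D x) (D (genericPoint C)) h' := Ideal.Quotient.mk _
  have hg : Function.Bijective (π.comp ψ) := by
    refine ⟨fun a b hab => hbij.1 ?_, fun q => ?_⟩
    · have : ψ a - ψ b ∈ RingHom.ker (Cyc.specMap (D x) (D (genericPoint C)) h') :=
        Ideal.Quotient.eq.1 hab
      rw [hker] at this
      exact sub_eq_zero.1 ((map_sub φ (ψ a) (ψ b)).symm.trans this)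
    · obtain ⟨a, rfl⟩ := Ideal.Quotient.mk_surjective q
      obtain ⟨b, hb⟩ := hbij.2 (φ a)
      refine ⟨b, Ideal.Quotient.eq.2 ?_⟩
      rw [hker]
      show φ (ψ b - a) = 0
      rw [map_sub]
      exact sub_eq_zero.2 hb
  have hmax : ((IsLocalRing.maximalIdeal (C.presheaf.stalk (g (D x)))).map (π.comp ψ)).IsMaximal :=
    Ideal.map_isMaximal_of_equiv (RingEquiv.ofBijective _ hg)
  unfold AlgEqCyc.fibreMult
  set J := (IsLocalRing.maximalIdeal (C.presheaf.stalk (g (D x)))).map (π.comp ψ) with hJ
  haveI := hmax
  rw [show Module.length (P.presheaf.stalk (D x)) (Cyc.LocQuot (D x) (D (genericPoint C)) h' ⧸ J) = 1 by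
    rw [Module.length_eq_of_surjective (R := Cyc.LocQuot (D x) (D (genericPoint C)) h' ⧸ J)
      (S := P.presheaf.stalk (D x))
      ((Ideal.Quotient.mk_surjective (I := J)).comp Ideal.Quotient.mk_surjective)]
    letI := Ideal.Quotient.field J
    exact Module.length_eq_one _ _]
  rfl

variable {k : Type u} [Field k] {C : Scheme.{u}}

open scoped Classical in
theorem fibreFun_diag [IsIntegral C] (q : C ⟶ Spec (CommRingCat.of k)) [IsSeparated q]
    (W : AlgebraicCycle (pullback q q) ℤ)
    (hW : ∀ w, W w = if w = pullback.diagonal q (genericPoint C) then 1 else 0)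
    (t : Spec (CommRingCat.of k) ⟶ C) (ht : t ≫ q = 𝟙 _) (x : C) :
    AlgEqCyc.fibreFun q q W t ht x = if x = t (IsLocalRing.closedPoint k) then 1 else 0 := by
  set D := pullback.diagonal q with hD
  have hfst : ∀ y : C, pullback.fst q q (D y) = y := fun y => by
    rw [← Scheme.Hom.comp_apply, hD, pullback.diagonal_fst]; rfl
  have hsnd : ∀ y : C, pullback.snd q q (D y) = y := fun y => by
    rw [← Scheme.Hom.comp_apply, hD, pullback.diagonal_snd]; rfl
  have hsl : t ≫ AlgEqCyc.slice q q t ht = t ≫ D := by
    apply pullback.hom_ext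
    · rw [AlgEqCyc.slice, hD, Category.assoc, Category.assoc, pullback.lift_fst, pullback.diagonal_fst]
    · rw [AlgEqCyc.slice, hD, Category.assoc, Category.assoc, pullback.lift_snd, pullback.diagonal_snd,
        ← Category.assoc t q t, ht, Category.id_comp, Category.comp_id]
  have hpt : ∀ y : C, (q y : ↥(Spec (CommRingCat.of k))) = IsLocalRing.closedPoint k :=
    fun y => Subsingleton.elim _ _
  have hx : ∀ w : {w : ↥(pullback q q) // W w ≠ 0 ∧ w ⤳ AlgEqCyc.slice q q t ht x},
      w.1 = D (genericPoint C) ∧ x = t (IsLocalRing.closedPoint k) := fun w => by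
    have hw : w.1 = D (genericPoint C) := by
      by_contra hne
      exact w.2.1 (by rw [hW, if_neg hne])
    refine ⟨hw, ?_⟩
    have hs := w.2.2
    rw [hw] at hs
    obtain ⟨y, hy⟩ := hs.mem_closed D.isClosedEmbedding.isClosed_range ⟨genericPoint C, rfl⟩
    have e1 := congrArg (pullback.fst q q) hy
    have e2 := congrArg (pullback.snd q q) hy
    rw [hfst, ← Scheme.Hom.comp_apply, AlgEqCyc.slice, pullback.lift_fst] at e1
    rw [hsnd, ← Scheme.Hom.comp_apply, AlgEqCyc.slice, pullback.lift_snd, Scheme.Hom.comp_apply, hpt] at e2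
    have e1' : y = x := e1
    rw [← e1']
    exact e2
  unfold AlgEqCyc.fibreFun
  split_ifs with hxt
  · have hpos : AlgEqCyc.slice q q t ht x = D x := by
      rw [hxt]; exact congrArg (fun m : Spec (CommRingCat.of k) ⟶ pullback q q => m (IsLocalRing.closedPoint k)) hsl
    have hgen : genericPoint C ⤳ x := genericPoint_specializes x
    have h' : D (genericPoint C) ⤳ D x := hgen.map D.continuous
    haveI : IsIso (D ≫ pullback.snd q q) := by rw [hD, pullback.diagonal_snd]; infer_instance
    have hone := fibreMult_image_eq_one D (pullback.snd q q) x hgen h'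
    have hmult : ∀ (v : ↥(pullback q q)) (_ : v = D x) (h : D (genericPoint C) ⤳ v),
        AlgEqCyc.fibreMult (pullback.snd q q) v (D (genericPoint C)) h = 1 := by
      rintro v rfl h; exact hone
    have h'' : D (genericPoint C) ⤳ AlgEqCyc.slice q q t ht x := by rw [hpos]; exact h'
    rw [finsum_eq_single _ ⟨D (genericPoint C), by rw [hW, if_pos rfl]; exact one_ne_zero, h''⟩
      (fun w hne => absurd (Subtype.ext (hx w).1) hne)]
    rw [hmult _ hpos h'', hW, if_pos rfl]
    rfl
  · exact finsum_eq_zero_of_forall_eq_zero fun w => absurd (hx w).2 hxt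

end Groth.Agent.DiagFam3
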